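import Groth.Agent.TauLib.Closed

/-! Closedness and openness of unions of inverse images of the neutral components under powers. -/

set_option backward.isDefEq.respectTransparency false
set_option backward.isDefEq.respectTransparency.types false

universe u

open CategoryTheory Limits AlgebraicGeometry MonoidalCategory CartesianMonoidalCategory MonObj GrpObj TopologicalSpace
open scoped CategoryTheory.Obj

namespace Groth.Agent.TauLib

open GrpSchLib GrpSchLib.Neutral GrpFieldLib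

variable {S : Scheme.{u}} {G : Over S} [GrpObj G]

theorem pw_bc {S' : Scheme.{u}} (f : S' ⟶ S) (n : ℕ) (x : (Red.bc f G).left) :
    pullback.fst G.hom f (pw (Red.bc f G) n x) = pw G n (pullback.fst G.hom f x) := by
  let F := Over.pullback f
  have h : ((𝟙 (Red.bc f G) : Red.bc f G ⟶ Red.bc f G) ^ n) = F.map ((𝟙 G : G ⟶ G) ^ n) := by
    show _ = F.homMonoidHom ((𝟙 G : G ⟶ G) ^ n)
    rw [map_pow]
    exact congrArg (· ^ n) (F.map_id G).symm
  show pullback.fst G.hom f (((𝟙 (Red.bc f G) : Red.bc f G ⟶ Red.bc f G) ^ n).left x) = _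
  rw [h]
  exact congrArg (fun m : (F.obj G).left ⟶ G.left => m x) (pullback.lift_fst _ _ _)

theorem mem_bc_iff {S' : Scheme.{u}} (f : S' ⟶ S) (n : ℕ) (x : (Red.bc f G).left) :
    pw (Red.bc f G) n x ∈ SGA3x.neutralSet (Red.bc f G) ↔ pw G n (pullback.fst G.hom f x) ∈ SGA3x.neutralSet G := by
  rw [neutralSet_bc G f, Set.mem_preimage, pw_bc]

theorem isOpen_of_cover {E : Set G.left}
    (h : ∀ V : S.Opens, IsAffineOpen V → IsOpen (pullback.fst G.hom V.ι ⁻¹' E)) : IsOpen E := by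
  refine isOpen_iff_forall_mem_open.mpr fun x hx => ?_
  obtain ⟨V, hV, hxV, -⟩ := exists_isAffineOpen_mem_and_subset (show G.hom x ∈ (⊤ : S.Opens) from trivial)
  refine ⟨pullback.fst G.hom V.ι '' (pullback.fst G.hom V.ι ⁻¹' E), Set.image_preimage_subset _ _,
    (pullback.fst G.hom V.ι).isOpenEmbedding.isOpenMap _ (h V hV), ?_⟩
  obtain ⟨z, hz, -⟩ := Scheme.Pullback.exists_preimage_pullback (f := G.hom) (g := V.ι) x ⟨G.hom x, hxV⟩ rfl
  exact ⟨z, show pullback.fst G.hom V.ι z ∈ E from hz.symm ▸ hx, hz⟩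

theorem isClosed_of_cover {E : Set G.left}
    (h : ∀ V : S.Opens, IsAffineOpen V → IsClosed (pullback.fst G.hom V.ι ⁻¹' E)) : IsClosed E :=
  isOpen_compl_iff.mp (isOpen_of_cover fun V hV => (h V hV).isOpen_compl)

theorem isOpen_of_compact_opens {E : Set G.left}
    (h : ∀ Q : G.left.Opens, IsCompact (Q : Set G.left) → IsOpen (Q.ι ⁻¹' E)) : IsOpen E := by
  refine isOpen_iff_forall_mem_open.mpr fun x hx => ?_
  obtain ⟨Q, hQ, hxQ, -⟩ := exists_isAffineOpen_mem_and_subset (show x ∈ (⊤ : G.left.Opens) from trivial)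
  exact ⟨Q.ι '' (Q.ι ⁻¹' E), Set.image_preimage_subset _ _, Q.ι.isOpenEmbedding.isOpenMap _ (h Q hQ.isCompact),
    ⟨⟨x, hxQ⟩, hx, rfl⟩⟩

theorem isClosed_of_compact_opens {E : Set G.left}
    (h : ∀ Q : G.left.Opens, IsCompact (Q : Set G.left) → IsClosed (Q.ι ⁻¹' E)) : IsClosed E :=
  isOpen_compl_iff.mp (isOpen_of_compact_opens fun Q hQ => (h Q hQ).isOpen_compl)

section affine

variable [IsAffine S] [IsLocallyNoetherian S] [LocallyOfFiniteType G.hom]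

/-- The criterion on a quasi-compact open: the set is closed on each irreducible component over a
dense open of every irreducible closed subset of the base. -/
theorem isClosed_on_open (Q : G.left.Opens) (hQ : IsCompact (Q : Set G.left)) {E : Set G.left}
    (hE : ∀ ⦃a b : G.left⦄, a ⤳ b → a ∈ E → b ∈ E)
    (h : ∀ (Y : Set (Q : Scheme.{u})),
      (∀ n, ∃ O : Set (Q : Scheme.{u}), IsOpen O ∧ Y ∩ Q.ι ⁻¹' (pw G n ⁻¹' SGA3x.neutralSet G) = Y ∩ O) →
      ∀ W : Set Y, IsIrreducible W → IsClosed W → IsClosed (W ∩ Subtype.val ⁻¹' (Q.ι ⁻¹' E))) :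
    IsClosed (Q.ι ⁻¹' E) := by
  haveI : IsLocallyNoetherian G.left := LocallyOfFiniteType.isLocallyNoetherian G.hom
  haveI : IsNoetherian (Q : Scheme.{u}) := { toCompactSpace := isCompact_iff_compactSpace.mp hQ }
  haveI : IsNoetherian S := { }
  refine isClosed_of_dense_open (Q.ι ≫ G.hom) (fun a b hab ha => hE (hab.map Q.ι.continuous) ha) ?_
  intro Z hZ hirr
  obtain ⟨V, hV, hne, W, hW, hWeq⟩ := exists_neutral_open G hZ hirr
  refine ⟨V, hV, hne, ?_⟩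
  let Y : Set (Q : Scheme.{u}) := (Q.ι ≫ G.hom) ⁻¹' (Z ∩ V)
  have hopen : ∀ n, ∃ O : Set (Q : Scheme.{u}), IsOpen O ∧ Y ∩ Q.ι ⁻¹' (pw G n ⁻¹' SGA3x.neutralSet G) = Y ∩ O := fun n => by
    refine ⟨Q.ι ⁻¹' (pw G n ⁻¹' W), (hW.preimage ((𝟙 G : G ⟶ G) ^ n).left.continuous).preimage Q.ι.continuous, ?_⟩
    ext a
    refine and_congr_right fun ha => ?_
    have hb : pw G n (Q.ι a) ∈ G.hom ⁻¹' (Z ∩ V) := by
      show G.hom (pw G n (Q.ι a)) ∈ Z ∩ V
      rw [hom_pw]; exact ha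
    exact ⟨fun h' => (hWeq.le ⟨h', hb⟩).1, fun h' => (hWeq.ge ⟨h', hb⟩).1⟩
  have hEY : IsClosed (Subtype.val ⁻¹' (Q.ι ⁻¹' E) : Set Y) := by
    obtain ⟨F, hFfin, hFcl, hFirr, hcov⟩ := NoetherianSpace.exists_finite_set_isClosed_irreducible
      (isClosed_univ (X := Y))
    have e : (Subtype.val ⁻¹' (Q.ι ⁻¹' E) : Set Y) = ⋃ U ∈ F, U ∩ Subtype.val ⁻¹' (Q.ι ⁻¹' E) := by
      ext a
      refine ⟨fun ha => ?_, fun ha => ?_⟩
      · obtain ⟨U, hU, haU⟩ := Set.mem_sUnion.1 (hcov.le (Set.mem_univ a))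
        exact Set.mem_biUnion hU ⟨haU, ha⟩
      · obtain ⟨U, -, -, ha⟩ := Set.mem_iUnion₂.1 ha
        exact ha
    rw [e]
    exact hFfin.isClosed_biUnion fun U hU => h Y hopen U (hFirr U hU) (hFcl U hU)
  obtain ⟨C, hC, hCE⟩ := isClosed_induced_iff.1 hEY
  refine ⟨C, hC, ?_⟩
  ext a
  exact ⟨fun ⟨h1, h2⟩ => ⟨(Set.ext_iff.1 hCE ⟨a, h2⟩).2 h1, h2⟩, fun ⟨h1, h2⟩ => ⟨(Set.ext_iff.1 hCE ⟨a, h2⟩).1 h1, h2⟩⟩

/-- Unions of inverse images of a closed neutral set. -/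
theorem isClosed_pow_union_affine (h0 : IsClosed (SGA3x.neutralSet G)) (M : Set ℕ) :
    IsClosed {x : G.left | ∃ n ∈ M, pw G n x ∈ SGA3x.neutralSet G} := by
  refine isClosed_of_compact_opens fun Q hQ => isClosed_on_open Q hQ ?_ ?_
  · rintro a b hab ⟨n, hn, ha⟩
    exact ⟨n, hn, (hab.map ((𝟙 G : G ⟶ G) ^ n).left.continuous).mem_closed h0 ha⟩
  · intro Y hY W hW hWc
    by_cases hne : ∃ a ∈ W, a.1 ∈ Q.ι ⁻¹' {x : G.left | ∃ n ∈ M, pw G n x ∈ SGA3x.neutralSet G}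
    swap
    · convert isClosed_empty
      exact Set.eq_empty_of_forall_notMem fun a ha => hne ⟨a, ha.1, ha.2⟩
    obtain ⟨a, haW, n, hn, ha⟩ := hne
    obtain ⟨O, hO, hOeq⟩ := hY n
    convert hWc
    refine Set.inter_eq_left.2 fun b hb => ⟨n, hn, ?_⟩
    have h1 : W ⊆ closure (W ∩ Subtype.val ⁻¹' O) :=
      (subset_closure_inter_of_isPreirreducible_of_isOpen hW.isPreirreducible (hO.preimage continuous_subtype_val)
        ⟨a, haW, (hOeq.le ⟨a.2, ha⟩).2⟩)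
    have h2 : closure (W ∩ Subtype.val ⁻¹' O) ⊆ Subtype.val ⁻¹' (Q.ι ⁻¹' (pw G n ⁻¹' SGA3x.neutralSet G)) :=
      closure_minimal (fun c hc => (hOeq.ge ⟨c.2, hc.2⟩).2)
        (((h0.preimage ((𝟙 G : G ⟶ G) ^ n).left.continuous).preimage Q.ι.continuous).preimage continuous_subtype_val)
    exact h2 (h1 hb)

/-- The torsion set is open. -/
theorem isOpen_tau_affine : IsOpen {x : G.left | ∃ n, 0 < n ∧ pw G n x ∈ SGA3x.neutralSet G} := by
  obtain ⟨Q₀, hQ₀, hNQ⟩ := Groth.Agent.S5323.result S G fun s => MorphismProperty.pullback_snd _ _ inferInstance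
  refine isOpen_of_compact_opens fun Q hQ => isClosed_compl_iff.1 ?_
  refine isClosed_on_open Q hQ (E := {x | ∃ n, 0 < n ∧ pw G n x ∈ SGA3x.neutralSet G}ᶜ) ?_ ?_
  · rintro a b hab ha ⟨n, hn, hb⟩
    obtain ⟨m, hm, hm'⟩ := exists_pw_mem (pw G n a) Q₀ hQ₀ fun k hk => by
      refine (((hab.map ((𝟙 G : G ⟶ G) ^ n).left.continuous).map ((𝟙 G : G ⟶ G) ^ k).left.continuous)).mem_open
        Q₀.2 (hNQ ?_)
      show pw G k (pw G n b) ∈ _
      rw [pw_pw]
      exact pw_mem_mul hb k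
    rw [pw_pw] at hm'
    exact ha ⟨n * m, Nat.mul_pos hn hm, hm'⟩
  · intro Y hY W _ hWc
    choose O hO hOeq using hY
    have e : (Subtype.val ⁻¹' (Q.ι ⁻¹' {x | ∃ n, 0 < n ∧ pw G n x ∈ SGA3x.neutralSet G}ᶜ) : Set Y) =
        (Subtype.val ⁻¹' (⋃ n ∈ {n : ℕ | 0 < n}, O n))ᶜ := by
      ext a
      refine not_congr ⟨fun ⟨n, hn, h⟩ => Set.mem_biUnion (x := n) hn ((hOeq n).le ⟨a.2, h⟩).2, fun h => ?_⟩
      obtain ⟨n, hn, h⟩ := Set.mem_iUnion₂.1 h
      exact ⟨n, hn, ((hOeq n).ge ⟨a.2, h⟩).2⟩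
    rw [e]
    exact hWc.inter ((isOpen_biUnion fun n _ => hO n).preimage continuous_subtype_val).isClosed_compl

end affine

theorem isClosed_pow_union [IsLocallyNoetherian S] [LocallyOfFiniteType G.hom]
    (h0 : IsClosed (SGA3x.neutralSet G)) (M : Set ℕ) :
    IsClosed {x : G.left | ∃ n ∈ M, pw G n x ∈ SGA3x.neutralSet G} := by
  refine isClosed_of_cover fun V hV => ?_
  haveI : IsAffine (V : Scheme.{u}) := hV
  haveI : LocallyOfFiniteType (Red.bc V.ι G).hom := MorphismProperty.pullback_snd _ _ ‹_›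
  have hc := isClosed_pow_union_affine (G := Red.bc V.ι G)
    (by rw [neutralSet_bc]; exact h0.preimage (pullback.fst G.hom V.ι).continuous) M
  refine (congrArg IsClosed ?_).mpr hc
  ext a
  exact ⟨fun ⟨n, hn, h⟩ => ⟨n, hn, (mem_bc_iff _ _ _).2 h⟩, fun ⟨n, hn, h⟩ => ⟨n, hn, (mem_bc_iff _ _ _).1 h⟩⟩

theorem isOpen_tau [IsLocallyNoetherian S] [LocallyOfFiniteType G.hom] :
    IsOpen {x : G.left | ∃ n, 0 < n ∧ pw G n x ∈ SGA3x.neutralSet G} := by
  refine isOpen_of_cover fun V hV => ?_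
  haveI : IsAffine (V : Scheme.{u}) := hV
  haveI : LocallyOfFiniteType (Red.bc V.ι G).hom := MorphismProperty.pullback_snd _ _ ‹_›
  refine (congrArg IsOpen ?_).mpr (isOpen_tau_affine (G := Red.bc V.ι G))
  ext a
  exact ⟨fun ⟨n, hn, h⟩ => ⟨n, hn, (mem_bc_iff _ _ _).2 h⟩, fun ⟨n, hn, h⟩ => ⟨n, hn, (mem_bc_iff _ _ _).1 h⟩⟩

end Groth.Agent.TauLib
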