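import Groth.Agent.TauLib.Local
import Groth.Agent.GrpFieldLib.NeutralRep
import Groth.Agent.GrpSchLib.MonoSubgroup

/-! The open subgroup scheme on an open set of neutral components. -/

set_option backward.isDefEq.respectTransparency false
set_option backward.isDefEq.respectTransparency.types false

universe u

open CategoryTheory Limits AlgebraicGeometry MonoidalCategory CartesianMonoidalCategory MonObj GrpObj TopologicalSpace
open scoped CategoryTheory.Obj

namespace Groth.Agent.TauLib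

open GrpSchLib GrpSchLib.Neutral GrpFieldLib GrpFieldLib.SecComp

/-- An open union of neutral components carries a quasi-compact open subgroup scheme with connected fibres. -/
theorem exists_openSubgroup {S : Scheme.{u}} (G : Over S) [GrpObj G] [LocallyOfFinitePresentation G.hom]
    (hopen : IsOpen (SGA3x.neutralSet G)) :
    ∃ (P : Over S) (_ : GrpObj P) (i : P ⟶ G), IsMonHom i ∧ IsOpenImmersion i.left ∧ QuasiCompact P.hom ∧
      (∀ s : S, _root_.IsConnected (P.hom.base ⁻¹' {s})) ∧ Set.range i.left = SGA3x.neutralSet G := by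
  let N : G.left.Opens := ⟨SGA3x.neutralSet G, hopen⟩
  let P : Over S := Over.mk (N.ι ≫ G.hom)
  let i : P ⟶ G := Over.homMk N.ι rfl
  haveI : IsOpenImmersion i.left := inferInstanceAs (IsOpenImmersion N.ι)
  haveI : Mono i := (Over.forget S).mono_of_mono_map (inferInstanceAs (Mono N.ι))
  have hir : Set.range i.left = SGA3x.neutralSet G := Scheme.Opens.range_ι N
  have hfac : ∀ {Z : Over S} (g : Z ⟶ G), (∀ z, g.left z ∈ SGA3x.neutralSet G) →
      ∃ l : Z ⟶ P, l ≫ i = g := by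
    intro Z g hg
    have hle : Set.range g.left ⊆ Set.range i.left := by
      rintro _ ⟨z, rfl⟩
      rw [hir]; exact hg z
    refine ⟨Over.homMk (IsOpenImmersion.lift i.left g.left hle) ?_, ?_⟩
    · show _ ≫ i.left ≫ G.hom = Z.hom
      rw [← Category.assoc, IsOpenImmersion.lift_fac, Over.w]
    · exact Over.OverMorphism.ext (IsOpenImmersion.lift_fac _ _ _)
  have hiN : ∀ z, i.left z ∈ SGA3x.neutralSet G := fun z => hir ▸ ⟨z, rfl⟩
  obtain ⟨η', hη'⟩ := hfac η[G] fun s => unit_mem_neutralSet G s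
  obtain ⟨μ', hμ'⟩ := hfac ((fst P P ≫ i) * (snd P P ≫ i)) fun z => by
    rw [Hom.mul_def, left_comp_apply]
    refine mul_mem_neutralSet G ?_ ?_
    · rw [← left_comp_apply, lift_fst, left_comp_apply]; exact hiN _
    · rw [← left_comp_apply, lift_snd, left_comp_apply]; exact hiN _
  obtain ⟨ι', hι'⟩ := hfac i⁻¹ fun z => by
    rw [← Category.comp_id i, ← GrpObj.comp_inv, left_comp_apply, ← GrpObj.inv_eq_inv]
    exact inv_mem_neutralSet G (hiN z)
  obtain ⟨str, hstr⟩ := exists_grpObj_of_mono i η' hη' μ' hμ' ι' hι'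
  refine ⟨P, str, i, hstr, inferInstance,
    GrpFieldLib.NeutralRep.quasiCompact_of_range_eq G i i.left.isOpenEmbedding.isEmbedding hir, fun s => ?_, hir⟩
  have himg : i.left '' (P.hom.base ⁻¹' {s}) = connectedComponentIn (G.hom ⁻¹' {s}) (unit G s) := by
    ext x
    constructor
    · rintro ⟨z, hz, rfl⟩
      have h1 := (mem_neutralSet_iff G).1 (hiN z)
      have h2 : G.hom (i.left z) = s := hz
      rwa [h2] at h1
    · intro hx
      have hxs : G.hom x = s := connectedComponentIn_subset (G.hom ⁻¹' {s}) _ hx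
      obtain ⟨z, rfl⟩ : x ∈ Set.range i.left := hir ▸ (mem_neutralSet_iff G).2 (hxs.symm ▸ hx)
      exact ⟨z, hxs, rfl⟩
  have hconn : _root_.IsConnected (i.left '' (P.hom.base ⁻¹' {s})) := himg ▸
    ⟨⟨_, mem_connectedComponentIn (hom_unit G s)⟩, isPreconnected_connectedComponentIn⟩
  exact ⟨Set.image_nonempty.1 hconn.nonempty,
    i.left.isOpenEmbedding.isInducing.isPreconnected_image.1 hconn.isPreconnected⟩

/-- Over some non-empty open of the base the neutral components form an open set. -/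
theorem exists_nonempty_open {S : Scheme.{u}} [IsLocallyNoetherian S] [Nonempty S] (G : Over S) [GrpObj G]
    [LocallyOfFiniteType G.hom] :
    ∃ U : S.Opens, (U : Set S).Nonempty ∧ IsOpen (SGA3x.neutralSet G ∩ G.hom ⁻¹' (U : Set S)) := by
  obtain ⟨s⟩ := ‹Nonempty S›
  obtain ⟨V₀, hV₀, hs, -⟩ := exists_isAffineOpen_mem_and_subset (show s ∈ (⊤ : S.Opens) from trivial)
  haveI : IsAffine (V₀ : Scheme.{u}) := hV₀
  haveI : IsNoetherian (V₀ : Scheme.{u}) := { }
  haveI : LocallyOfFiniteType (Red.bc V₀.ι G).hom := MorphismProperty.pullback_snd _ _ ‹_›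
  let Z : Set (V₀ : Scheme.{u}) := irreducibleComponent ⟨s, hs⟩
  obtain ⟨O, hO, hOne, hOZ⟩ := NoetherianSpace.exists_isOpen_nonempty_subset_irreducibleComponent Z
    (irreducibleComponent_mem_irreducibleComponents _)
  obtain ⟨V, hV, hne, W, hW, hWeq⟩ := exists_neutral_open (Red.bc V₀.ι G) isClosed_irreducibleComponent
    (isIrreducible_irreducibleComponent (x := (⟨s, hs⟩ : (V₀ : Scheme.{u}))))
  obtain ⟨t, ht, htV⟩ := isIrreducible_irreducibleComponent.isPreirreducible O V hO hV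
    (by obtain ⟨t, ht⟩ := hOne; exact ⟨t, hOZ ht, ht⟩) hne
  let U' : (V₀ : Scheme.{u}).Opens := ⟨O ∩ V, hO.inter hV⟩
  refine ⟨V₀.ι ''ᵁ U', ⟨_, t, htV, rfl⟩, ?_⟩
  let π := pullback.fst G.hom V₀.ι
  let r := pullback.snd G.hom V₀.ι
  have e : SGA3x.neutralSet G ∩ G.hom ⁻¹' (V₀.ι ''ᵁ U' : Set S) =
      π '' (SGA3x.neutralSet (Red.bc V₀.ι G) ∩ r ⁻¹' (U' : Set (V₀ : Scheme.{u}))) := by
    ext x
    constructor
    · rintro ⟨hx, v, hv, hvx⟩
      obtain ⟨z, hz₁, hz₂⟩ := Scheme.Pullback.exists_preimage_pullback (f := G.hom) (g := V₀.ι) x v hvx.symm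
      exact ⟨z, ⟨by rw [neutralSet_bc]; show π z ∈ SGA3x.neutralSet G; rw [show π z = x from hz₁]; exact hx,
        show r z ∈ (U' : Set (V₀ : Scheme.{u})) from hz₂.symm ▸ hv⟩, hz₁⟩
    · rintro ⟨z, ⟨hz, hzU⟩, rfl⟩
      rw [neutralSet_bc] at hz
      refine ⟨hz, r z, hzU, ?_⟩
      exact congrArg (fun m : pullback G.hom V₀.ι ⟶ S => m z) pullback.condition.symm
  rw [e]
  refine π.isOpenEmbedding.isOpenMap _ ?_
  have e2 : SGA3x.neutralSet (Red.bc V₀.ι G) ∩ r ⁻¹' (U' : Set (V₀ : Scheme.{u})) = W ∩ r ⁻¹' (U' : Set (V₀ : Scheme.{u})) := by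
    ext z
    exact ⟨fun ⟨h1, h2⟩ => ⟨(hWeq.le ⟨h1, hOZ h2.1, h2.2⟩).1, h2⟩, fun ⟨h1, h2⟩ => ⟨(hWeq.ge ⟨h1, hOZ h2.1, h2.2⟩).1, h2⟩⟩
  rw [e2]
  exact hW.inter (U'.2.preimage r.continuous)

end Groth.Agent.TauLib
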