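import Groth.Agent.TauLib.Local

/-! Closedness of the set of points with a power of residue characteristic order in the neutral component. -/

set_option backward.isDefEq.respectTransparency false
set_option backward.isDefEq.respectTransparency.types false

universe u

open CategoryTheory Limits AlgebraicGeometry MonoidalCategory CartesianMonoidalCategory MonObj GrpObj TopologicalSpace
open scoped CategoryTheory.Obj

namespace Groth.Agent.TauLib

open GrpSchLib GrpSchLib.Neutral GrpFieldLib

theorem ringExpChar_eq_or_prime (K : Type u) [Field K] : ringExpChar K = 1 ∨ (ringExpChar K).Prime := by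
  have := expChar_is_prime_or_one K (ringExpChar K)
  exact this.symm

theorem ringExpChar_eq_prime_iff (K : Type u) [Field K] {q : ℕ} (hq : q.Prime) :
    ringExpChar K = q ↔ (q : K) = 0 := by
  have h2 := hq.two_le
  rw [ringExpChar]
  constructor
  · intro h
    have e : ringChar K = q := by omega
    rw [← e]
    exact ringChar.Nat.cast_ringChar
  · intro h
    rw [CharP.ringChar_of_prime_eq_zero hq h]
    omega

theorem ringExpChar_eq_of_hom {K L : Type u} [Field K] [Field L] (f : K →+* L) : ringExpChar L = ringExpChar K := by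
  haveI := expChar_of_injective_ringHom f.injective (ringExpChar K)
  exact ringExpChar.eq L (ringExpChar K)

variable {S : Scheme.{u}} {G : Over S} [GrpObj G] (p : S → ℕ) (hp : ∀ s : S, ringExpChar (S.residueField s) = p s)

include hp

/-- The locus where the exponential characteristic is a given prime. -/
theorem eq_prime_iff {q : ℕ} (hq : q.Prime) (s : S) : p s = q ↔ s ∉ S.basicOpen (q : Γ(S, ⊤)) := by
  rw [← hp, ringExpChar_eq_prime_iff _ hq, ← Scheme.evaluation_eq_zero_iff_notMem_basicOpen S s (U := ⊤) trivial,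
    map_natCast]

theorem eq_or_one_of_specializes {s t : S} (h : s ⤳ t) : p t = p s ∨ p s = 1 := by
  rcases ringExpChar_eq_or_prime (S.residueField s) with h1 | h1 <;> rw [hp] at h1
  · exact Or.inr h1
  · refine Or.inl ((eq_prime_iff p hp h1 t).2 fun ht => ?_)
    exact (eq_prime_iff p hp h1 s).1 rfl (h.mem_open (S.basicOpen _).2 ht)

omit hp in
theorem mem_of_pow_one {a : G.left} {h : ℕ} {x : ℕ} (hx : x = 1) (ha : pw G (x ^ h) a ∈ SGA3x.neutralSet G) :
    a ∈ SGA3x.neutralSet G := by
  rwa [hx, one_pow, pw_one] at ha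

theorem isClosed_rho_affine [IsAffine S] [IsLocallyNoetherian S] [LocallyOfFiniteType G.hom]
    (h0 : IsClosed (SGA3x.neutralSet G)) :
    IsClosed {x : G.left | ∃ h : ℕ, pw G (p (G.hom x) ^ h) x ∈ SGA3x.neutralSet G} := by
  refine isClosed_of_compact_opens fun Q hQ => isClosed_on_open Q hQ ?_ ?_
  · rintro a b hab ⟨h, ha⟩
    rcases eq_or_one_of_specializes p hp (hab.map G.hom.continuous) with e | e
    · exact ⟨h, (hab.map ((𝟙 G : G ⟶ G) ^ (p (G.hom b) ^ h)).left.continuous).mem_closed h0 (by rw [e]; exact ha)⟩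
    · refine ⟨0, ?_⟩
      rw [pow_zero, pw_one]
      exact hab.mem_closed h0 (mem_of_pow_one e ha)
  · intro Y hY W hW hWc
    let E : Set Y := Subtype.val ⁻¹' (Q.ι ⁻¹' {x : G.left | ∃ h : ℕ, pw G (p (G.hom x) ^ h) x ∈ SGA3x.neutralSet G})
    let π : Y → G.left := fun a => Q.ι a.1
    let T : ℕ → Set Y := fun n => π ⁻¹' (pw G n ⁻¹' SGA3x.neutralSet G)
    have hπ : Continuous π := Q.ι.continuous.comp continuous_subtype_val
    have hT : ∀ n, IsClosed (T n) := fun n =>
      (h0.preimage ((𝟙 G : G ⟶ G) ^ n).left.continuous).preimage hπ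
    have hsub : ∀ n, (W ∩ T n).Nonempty → W ⊆ T n := by
      rintro n ⟨a, haW, ha⟩
      obtain ⟨O, hO, hOeq⟩ := hY n
      refine (subset_closure_inter_of_isPreirreducible_of_isOpen hW.isPreirreducible (hO.preimage continuous_subtype_val)
        ⟨a, haW, (hOeq.le ⟨a.2, ha⟩).2⟩).trans (closure_minimal (fun c hc => (hOeq.ge ⟨c.2, hc.2⟩).2) (hT n))
    show IsClosed (W ∩ E)
    by_cases hone : W ⊆ T 1
    · rw [Set.inter_eq_left.2 (show W ⊆ E from fun a ha => ⟨0, by rw [pow_zero]; exact hone ha⟩)]
      exact hWc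
    by_cases hne : (W ∩ E).Nonempty
    swap
    · rw [Set.not_nonempty_iff_eq_empty.1 hne]; exact isClosed_empty
    obtain ⟨a, haW, h, ha⟩ := hne
    let q := p (G.hom (π a))
    have haT : W ⊆ T (q ^ h) := hsub _ ⟨a, haW, ha⟩
    have hq : q.Prime := by
      rcases ringExpChar_eq_or_prime (S.residueField (G.hom (π a))) with h1 | h1 <;> rw [hp] at h1
      · refine absurd ?_ hone
        rw [show q = 1 from h1, one_pow] at haT
        exact haT
      · exact h1
    have e : W ∩ E = W ∩ π ⁻¹' (G.hom ⁻¹' (S.basicOpen (q : Γ(S, ⊤)) : Set S)ᶜ) := by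
      ext b
      refine and_congr_right fun hbW => ⟨?_, fun hb => ?_⟩
      · rintro ⟨k, hb⟩
        refine (eq_prime_iff p hp hq _).1 (by_contra fun hne' => hone ?_)
        rcases ringExpChar_eq_or_prime (S.residueField (G.hom (π b))) with h1 | h1 <;> rw [hp] at h1
        · exact hsub 1 ⟨b, hbW, show pw G 1 (π b) ∈ _ by rw [pw_one]; exact mem_of_pow_one h1 hb⟩
        · refine hsub 1 ⟨b, hbW, ?_⟩
          have hg := pw_mem_gcd (x := π b) (haT hbW) hb
          rwa [Nat.Coprime.pow h k ((Nat.coprime_primes hq h1).2 fun e => hne' e.symm)] at hg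
      · refine ⟨h, ?_⟩
        show pw G (p (G.hom (π b)) ^ h) (π b) ∈ _
        rw [(eq_prime_iff p hp hq _).2 hb]
        exact haT hbW
    rw [e]
    exact hWc.inter (((S.basicOpen _).2.isClosed_compl.preimage G.hom.continuous).preimage hπ)

theorem isClosed_rho [IsLocallyNoetherian S] [LocallyOfFiniteType G.hom] (h0 : IsClosed (SGA3x.neutralSet G)) :
    IsClosed {x : G.left | ∃ h : ℕ, pw G (p (G.hom x) ^ h) x ∈ SGA3x.neutralSet G} := by
  refine isClosed_of_cover fun V hV => ?_
  haveI : IsAffine (V : Scheme.{u}) := hV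
  haveI : LocallyOfFiniteType (Red.bc V.ι G).hom := MorphismProperty.pullback_snd _ _ ‹_›
  have hc := isClosed_rho_affine (G := Red.bc V.ι G) (fun s => p (V.ι s))
    (fun s => (ringExpChar_eq_of_hom (V.ι.residueFieldMap s).hom).trans (hp _))
    (by rw [neutralSet_bc]; exact h0.preimage (pullback.fst G.hom V.ι).continuous)
  refine (congrArg IsClosed ?_).mpr hc
  ext a
  have e : G.hom (pullback.fst G.hom V.ι a) = V.ι ((Red.bc V.ι G).hom a) :=
    congrArg (fun m : pullback G.hom V.ι ⟶ S => m a) pullback.condition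
  constructor
  · rintro ⟨h, hh⟩; exact ⟨h, (mem_bc_iff _ _ _).2 (by rw [← e]; exact hh)⟩
  · rintro ⟨h, hh⟩; exact ⟨h, by rw [e]; exact (mem_bc_iff _ _ _).1 hh⟩

end Groth.Agent.TauLib
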