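import Groth.Agent.TauLib.Rho
import Groth.Agent.S4112
import Groth.Agent.GrpFieldLib.NeutralImage
import Groth.Agent.GrpSchLib.RankOneBase
import Groth.Agent.DescLib.SubtrVal

/-! Openness of the set of points with a power of characteristic exponent order in the neutral component. -/

set_option backward.isDefEq.respectTransparency false
set_option backward.isDefEq.respectTransparency.types false

universe u

open CategoryTheory Limits AlgebraicGeometry MonoidalCategory CartesianMonoidalCategory MonObj GrpObj TopologicalSpace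
open scoped CategoryTheory.Obj

namespace Groth.Agent.TauLib

open GrpSchLib GrpSchLib.Neutral GrpFieldLib

theorem isMonHom_pow {C : Type*} [Category C] [CartesianMonoidalCategory C] [BraidedCategory C] (X : C)
    [GrpObj X] [IsCommMonObj X] : ∀ n : ℕ, IsMonHom ((𝟙 X : X ⟶ X) ^ n)
  | 0 => by rw [pow_zero, Hom.one_def]; infer_instance
  | n + 1 => by
    haveI := isMonHom_pow X n
    rw [pow_succ, Hom.mul_def]
    infer_instance

/-- The power map of order prime to the characteristic is surjective on the neutral component. -/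
theorem exists_pw_eq_field {k : Type u} [Field k] (G : Over (Spec (CommRingCat.of k))) [GrpObj G] [IsCommMonObj G]
    [LocallyOfFiniteType G.hom] {n : ℕ} (hn : (n : k) ≠ 0) {x : G.left} (hx : x ∈ SGA3x.neutralSet G) :
    ∃ y ∈ SGA3x.neutralSet G, pw G n y = x := by
  obtain ⟨G₀, inst, incl, hincl, hci, -, hr, hgi, hc⟩ := GrpSchLib.exists_identityComponent (G := G)
  haveI := hincl
  haveI := hci
  haveI := hgi
  haveI := hc
  haveI : Mono incl.left := inferInstance
  haveI : Mono incl := (Over.forget _).mono_of_mono_map ‹Mono incl.left›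
  haveI : IsCommMonObj G₀ := ⟨by
    rw [← cancel_mono incl, Category.assoc, IsMonHom.mul_hom, ← BraidedCategory.braiding_naturality_assoc,
      IsCommMonObj.mul_comm]⟩
  haveI : LocallyOfFiniteType G₀.hom := by rw [← Over.w incl]; infer_instance
  haveI : QuasiCompact G₀.hom := HasAffineProperty.iff_of_isAffine.mpr hc
  haveI : Subsingleton ↥(Spec (CommRingCat.of k)) := inferInstanceAs (Subsingleton (PrimeSpectrum k))
  haveI := S4112.result k G₀ n hn
  haveI := isMonHom_pow G₀ n
  haveI : LocallyOfFinitePresentation G₀.hom := inferInstance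
  have hN : SGA3x.neutralSet G = Set.range incl.left := by
    rw [hr, HomogRel.neutralSet_eq_unitComp]
  obtain ⟨z, rfl⟩ := hN.le hx
  have huniv : SGA3x.neutralSet G₀ = Set.univ := by
    refine neutralSet_eq_univ G₀ fun s => ?_
    rw [show G₀.hom ⁻¹' {s} = Set.univ from Set.eq_univ_of_forall fun z => Subsingleton.elim _ _]
    refine incl.left.isClosedEmbedding.isInducing.isPreconnected_image.1 ?_
    rw [Set.image_univ, hr]
    exact isPreconnected_connectedComponent
  obtain ⟨w, -, hw⟩ := NeutralImage.image_field ((𝟙 G₀ : G₀ ⟶ G₀) ^ n) (huniv ▸ Set.mem_univ z)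
  refine ⟨incl.left w, hN.ge ⟨w, rfl⟩, ?_⟩
  rw [← hw, ← left_comp_apply]
  show (incl.left ≫ ((𝟙 G : G ⟶ G) ^ n).left) w = _
  have h := map_pow (IsMonHom.monoidHom incl G₀) (𝟙 G₀) n
  change ((𝟙 G₀ : G₀ ⟶ G₀) ^ n) ≫ incl = (𝟙 G₀ ≫ incl) ^ n at h
  rw [← Over.comp_left, h, MonObj.comp_pow, Category.comp_id, Category.id_comp]

variable {S : Scheme.{u}} {G : Over S} [GrpObj G]

theorem pw_fib (s : S) (n : ℕ) (z : (fib G s).left) :
    pullback.fst G.hom (S.fromSpecResidueField s) (pw (fib G s) n z) =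
      pw G n (pullback.fst G.hom (S.fromSpecResidueField s) z) :=
  pw_bc (S.fromSpecResidueField s) n z

theorem exists_pw_eq [IsCommMonObj G] [LocallyOfFiniteType G.hom] {n : ℕ} (b : G.left)
    (hn : (n : S.residueField (G.hom b)) ≠ 0) (hb : b ∈ SGA3x.neutralSet G) :
    ∃ a ∈ SGA3x.neutralSet G, pw G n a = b := by
  obtain ⟨z, hz⟩ := NeutralImage.exists_fibre b
  haveI : LocallyOfFiniteType (fib G (G.hom b)).hom := MorphismProperty.pullback_snd _ _ ‹_›
  obtain ⟨w, hw, hwz⟩ := exists_pw_eq_field (fib G (G.hom b)) hn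
    ((NeutralImage.mem_fibre _ z).2 (by rwa [hz]))
  exact ⟨_, (NeutralImage.mem_fibre _ w).1 hw, by rw [← pw_fib, hwz, hz]⟩

/-- An open power map prime to the characteristic has no new torsion near the neutral components. -/
theorem mem_of_pw_mem [IsAffine S] [IsLocallyNoetherian S] [IsCommMonObj G] [LocallyOfFiniteType G.hom]
    {l : ℕ} (hl : ∀ s : S, (l : S.residueField s) ≠ 0) (hopen : IsOpenMap (pw G l))
    {y b : G.left} (hyb : y ⤳ b) (hb : b ∈ SGA3x.neutralSet G) (hy : pw G l y ∈ SGA3x.neutralSet G) :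
    y ∈ SGA3x.neutralSet G := by
  let t := G.hom y
  let F := fib G t
  let π := pullback.fst G.hom (S.fromSpecResidueField t)
  have hπ : Topology.IsEmbedding π := (G.hom.fiberι t).isEmbedding
  have hr : Set.range π = G.hom ⁻¹' {t} := Scheme.Hom.range_fiberι G.hom t
  haveI : LocallyOfFiniteType F.hom := MorphismProperty.pullback_snd _ _ ‹_›
  haveI : IsLocallyNoetherian F.left := LocallyOfFiniteType.isLocallyNoetherian F.hom
  obtain ⟨Q₀, hQ₀, hNQ⟩ := Groth.Agent.S5323.result S G fun s => MorphismProperty.pullback_snd _ _ inferInstance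
  let Q' : F.left.Opens := π ⁻¹ᵁ Q₀
  haveI : IsAffineHom (S.fromSpecResidueField t) := isAffineHom_of_isAffine _
  haveI : IsAffineHom π := MorphismProperty.pullback_fst G.hom (S.fromSpecResidueField t) ‹_›
  haveI : CompactSpace ↥(Q' : Scheme.{u}) := isCompact_iff_compactSpace.mp (π.isCompact_preimage hQ₀)
  haveI : IsNoetherian (Q' : Scheme.{u}) := { }
  haveI : Nonempty (_root_.ConnectedComponents F.left) :=
    ⟨_root_.ConnectedComponents.mk (η[fib G t].left (IsLocalRing.closedPoint (S.residueField t)))⟩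
  let D : Set (_root_.ConnectedComponents F.left) :=
    _root_.ConnectedComponents.mk '' {a | ∃ c ∈ SGA3x.neutralSet G, π a ⤳ c}
  have hD : D.Finite := by
    refine (NoetherianSpace.finite_irreducibleComponents (α := ↥(Q' : Scheme.{u}))).image
      (fun W => (Classical.epsilon fun c : _root_.ConnectedComponents F.left => ∀ a ∈ W, _root_.ConnectedComponents.mk (Q'.ι a) = c))
      |>.subset ?_
    rintro _ ⟨a, ⟨c, hc, hac⟩, rfl⟩
    let a' : (Q' : Scheme.{u}) := ⟨a, hac.mem_open Q₀.2 (hNQ hc)⟩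
    refine ⟨irreducibleComponent a', irreducibleComponent_mem_irreducibleComponents _, ?_⟩
    have key : ∀ x ∈ irreducibleComponent a', _root_.ConnectedComponents.mk (Q'.ι x) = _root_.ConnectedComponents.mk a := by
      intro x hx
      refine _root_.ConnectedComponents.coe_eq_coe'.2 ?_
      exact ((isIrreducible_irreducibleComponent (x := a')).isPreirreducible.isPreconnected.image _
        Q'.ι.continuous.continuousOn).subset_connectedComponent ⟨a', mem_irreducibleComponent, rfl⟩ ⟨x, hx, rfl⟩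
    have h1 := Classical.epsilon_spec (p := fun c : _root_.ConnectedComponents F.left =>
      ∀ x ∈ irreducibleComponent a', _root_.ConnectedComponents.mk (Q'.ι x) = c) ⟨_, key⟩
    exact (h1 a' mem_irreducibleComponent).symm
  let f : F.left → F.left := pw F l
  have hf : Continuous f := ((𝟙 F : F ⟶ F) ^ l).left.continuous
  let φ := hf.connectedComponentsMap
  have hφ : ∀ a, φ (_root_.ConnectedComponents.mk a) = _root_.ConnectedComponents.mk (f a) := fun a => rfl
  have hmaps : Set.MapsTo φ D D := by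
    rintro _ ⟨a, ⟨c, hc, hac⟩, rfl⟩
    refine ⟨f a, ⟨pw G l c, ?_, ?_⟩, (hφ a).symm⟩
    · simpa using pw_mem_mul (G := G) (x := c) (a := 1) (by rwa [pw_one]) l
    · rw [show π (f a) = pw G l (π a) from pw_fib t l a]
      exact hac.map ((𝟙 G : G ⟶ G) ^ l).left.continuous
  have hsurj : Set.SurjOn φ D D := by
    rintro _ ⟨a, ⟨c, hc, hac⟩, rfl⟩
    obtain ⟨c₀, hc₀, rfl⟩ := exists_pw_eq c (hl _) hc
    have hcl : c₀ ∈ closure (pw G l ⁻¹' {π a}) := by
      rw [← hopen.preimage_closure_eq_closure_preimage ((𝟙 G : G ⟶ G) ^ l).left.continuous]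
      exact specializes_iff_mem_closure.1 hac
    obtain ⟨g, hg, hgc⟩ := DescLib.exists_specializes_of_mem_closure_preimage_singleton
      ((𝟙 G : G ⟶ G) ^ l).left (π a) hcl
    obtain ⟨g', rfl⟩ : g ∈ Set.range π := by
      rw [hr]
      show G.hom g = t
      rw [← hom_pw G l g, show pw G l g = π a from hg]
      exact hr.le ⟨a, rfl⟩
    refine ⟨_root_.ConnectedComponents.mk g', ⟨g', ⟨c₀, hc₀, hgc⟩, rfl⟩, ?_⟩
    rw [hφ, show f g' = a from hπ.injective ((pw_fib t l g').trans hg)]
  obtain ⟨a, ha⟩ : y ∈ Set.range π := hr.ge rfl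
  obtain ⟨e, he⟩ : unit G t ∈ Set.range π := hr.ge (hom_unit G t)
  have haD : _root_.ConnectedComponents.mk a ∈ D := ⟨a, ⟨b, hb, ha ▸ hyb⟩, rfl⟩
  have heD : _root_.ConnectedComponents.mk e ∈ D :=
    ⟨e, ⟨unit G t, unit_mem_neutralSet G t, he ▸ specializes_rfl⟩, rfl⟩
  have hN : ∀ {x : F.left}, π x ∈ SGA3x.neutralSet G ↔ _root_.ConnectedComponents.mk x = _root_.ConnectedComponents.mk e := by
    intro x
    rw [mem_neutralSet_iff, show G.hom (π x) = t from hr.le ⟨x, rfl⟩, Neutral.connectedComponentIn_eq,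
      hπ.injective.mem_set_image, _root_.ConnectedComponents.coe_eq_coe']
    rw [show e = η[fib G t].left (IsLocalRing.closedPoint (S.residueField t)) from
      hπ.injective (he.trans (fst_unit G t _).symm)]
  have h1 : φ (_root_.ConnectedComponents.mk a) = φ (_root_.ConnectedComponents.mk e) := by
    rw [hφ, hφ]
    refine (hN.1 ?_).trans (hN.1 ?_).symm
    · rw [show π (f a) = pw G l (π a) from pw_fib t l a, ha]; exact hy
    · rw [show π (f e) = pw G l (π e) from pw_fib t l e, he]
      simpa using pw_mem_mul (G := G) (x := unit G t) (a := 1) (by rw [pw_one]; exact unit_mem_neutralSet G t) l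
  haveI := hD.fintype
  have hbij : Function.Bijective (hmaps.restrict φ D D) :=
    Finite.surjective_iff_bijective.1 ((Set.MapsTo.restrict_surjective_iff hmaps).2 hsurj)
  have h2 : (⟨_, haD⟩ : D) = ⟨_, heD⟩ := hbij.1 (Subtype.ext h1)
  rw [← ha]
  exact hN.2 (congrArg Subtype.val h2)

theorem exists_pow_mem [IsAffine S] [IsLocallyNoetherian S] [IsCommMonObj G] [LocallyOfFiniteType G.hom]
    (p : ℕ) (hp : ∀ s : S, ringExpChar (S.residueField s) = p)
    (hopen : ∀ n, 0 < n → n.Coprime p → IsOpenMap (pw G n)) :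
    ∀ (m : ℕ), 0 < m → ∀ {u b : G.left}, u ⤳ b → b ∈ SGA3x.neutralSet G → pw G m u ∈ SGA3x.neutralSet G →
      ∃ k : ℕ, pw G (p ^ k) u ∈ SGA3x.neutralSet G := by
  intro m
  induction m using Nat.strong_induction_on with
  | _ m ih =>
    intro hm u b hub hb hu
    rcases eq_or_ne m 1 with rfl | hm1
    · exact ⟨0, by rwa [pow_zero]⟩
    obtain ⟨l, hl, m', rfl⟩ := Nat.exists_prime_and_dvd hm1
    have hm' : 0 < m' := Nat.pos_of_mul_pos_left hm
    have hlt : m' < l * m' := lt_mul_of_one_lt_left hm' hl.one_lt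
    have hmul : ∀ k, pw G k b ∈ SGA3x.neutralSet G := fun k => by
      simpa using pw_mem_mul (G := G) (x := b) (a := 1) (by rwa [pw_one]) k
    by_cases hlp : l = p
    · obtain ⟨k, hk⟩ := ih m' hlt hm' (hub.map ((𝟙 G : G ⟶ G) ^ l).left.continuous) (hmul l)
        (by rw [pw_pw]; exact hu)
      rw [pw_pw, hlp, ← pow_succ'] at hk
      exact ⟨k + 1, hk⟩
    · have hcop : l.Coprime p := by
        rcases isEmpty_or_nonempty S with hS | ⟨⟨s⟩⟩
        · exact (hS.false (G.hom u)).elim
        · rcases ringExpChar_eq_or_prime (S.residueField s) with h | h <;> rw [hp] at h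
          · rw [h]; exact Nat.coprime_one_right l
          · exact (Nat.coprime_primes hl h).2 hlp
      have hne : ∀ s : S, (l : S.residueField s) ≠ 0 := fun s h =>
        hlp (((ringExpChar_eq_prime_iff _ hl).2 h).symm.trans (hp s))
      exact ih m' hlt hm' hub hb (mem_of_pw_mem hne (hopen l hl.pos hcop)
        (hub.map ((𝟙 G : G ⟶ G) ^ m').left.continuous) (hmul m') (by rw [pw_pw, mul_comm]; exact hu))

theorem isOpen_rho_affine [IsAffine S] [IsLocallyNoetherian S] [IsCommMonObj G] [LocallyOfFiniteType G.hom]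
    (p : ℕ) (hp : ∀ s : S, ringExpChar (S.residueField s) = p)
    (hopen : ∀ n, 0 < n → n.Coprime p → IsOpenMap (pw G n)) :
    IsOpen {x : G.left | ∃ h : ℕ, pw G (p ^ h) x ∈ SGA3x.neutralSet G} := by
  refine isOpen_of_compact_opens fun Q hQ => isClosed_compl_iff.1 ?_
  refine isClosed_on_open Q hQ (E := {x | ∃ h : ℕ, pw G (p ^ h) x ∈ SGA3x.neutralSet G}ᶜ) ?_ ?_
  · rintro a b hab ha ⟨h, hb⟩
    have hpos : 0 < p := by
      rw [← hp (G.hom a)]; exact lt_of_lt_of_le Nat.one_pos (le_max_right _ _)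
    obtain ⟨n, hn, han⟩ : a ∈ {x : G.left | ∃ n, 0 < n ∧ pw G n x ∈ SGA3x.neutralSet G} :=
      hab.mem_open isOpen_tau ⟨p ^ h, Nat.pow_pos hpos, hb⟩
    obtain ⟨k, hk⟩ := exists_pow_mem p hp hopen n hn
      (hab.map ((𝟙 G : G ⟶ G) ^ (p ^ h)).left.continuous) hb (by
        rw [pw_pw, mul_comm]; exact pw_mem_mul han _)
    exact ha ⟨h + k, by rw [pow_add, ← pw_pw]; exact hk⟩
  · intro Y hY W _ hWc
    choose O hO hOeq using hY
    have e : (Subtype.val ⁻¹' (Q.ι ⁻¹' {x | ∃ h : ℕ, pw G (p ^ h) x ∈ SGA3x.neutralSet G}ᶜ) : Set Y) =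
        (Subtype.val ⁻¹' (⋃ h : ℕ, O (p ^ h)))ᶜ := by
      ext a
      refine not_congr ⟨fun ⟨h, hh⟩ => Set.mem_iUnion.2 ⟨h, ((hOeq _).le ⟨a.2, hh⟩).2⟩, fun h => ?_⟩
      obtain ⟨n, h⟩ := Set.mem_iUnion.1 h
      exact ⟨n, ((hOeq _).ge ⟨a.2, h⟩).2⟩
    rw [e]
    exact hWc.inter ((isOpen_iUnion fun h => hO _).preimage continuous_subtype_val).isClosed_compl

end Groth.Agent.TauLib
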