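import Groth.Agent.TauLib.Field
import Groth.Agent.GrpFieldLib.NeutralCons
import Groth.Agent.ProConsLib.Image

/-! Closedness by Noetherian induction over the base, and openness of the neutral components over a dense open. -/

set_option backward.isDefEq.respectTransparency false
set_option backward.isDefEq.respectTransparency.types false

universe u

open CategoryTheory Limits AlgebraicGeometry MonoidalCategory CartesianMonoidalCategory MonObj GrpObj TopologicalSpace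
open scoped CategoryTheory.Obj

namespace Groth.Agent.TauLib

open GrpSchLib GrpSchLib.Neutral GrpFieldLib

theorem closure_subset_of_stable {X : Scheme.{u}} [NoetherianSpace X] {E : Set X}
    (hE : ∀ ⦃a b : X⦄, a ⤳ b → a ∈ E → b ∈ E) {O C : Set X} (hO : IsOpen O) (hC : IsClosed C)
    (h : C ∩ O ⊆ E) : closure (C ∩ O) ⊆ E := by
  let A : Closeds X := ⟨closure (C ∩ O), isClosed_closure⟩
  haveI : NoetherianSpace ↥(closure (C ∩ O)) := inferInstance
  obtain ⟨F, hFfin, hFcl, hFirr, hcov⟩ := NoetherianSpace.exists_finite_set_isClosed_irreducible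
    (isClosed_closure (s := C ∩ O))
  intro y hy
  have hy' : y ∈ closure (C ∩ O) := hy
  have hcov' : C ∩ O ⊆ ⋃ W ∈ {W ∈ F | (W ∩ O).Nonempty}, W := by
    rintro a ha
    obtain ⟨W, hW, haW⟩ := Set.mem_sUnion.1 (hcov.le (subset_closure ha))
    exact Set.mem_biUnion (x := W) ⟨hW, a, haW, ha.2⟩ haW
  have hcl : IsClosed (⋃ W ∈ {W ∈ F | (W ∩ O).Nonempty}, W) :=
    (hFfin.subset fun W hW => hW.1).isClosed_biUnion fun W hW => hFcl W hW.1
  obtain ⟨W, ⟨hW, hWO⟩, hyW⟩ := Set.mem_iUnion₂.mp (closure_minimal hcov' hcl hy')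
  obtain ⟨g, hg⟩ := QuasiSober.sober (hFirr W hW) (hFcl W hW)
  refine hE (hg.specializes hyW) (h ⟨?_, ?_⟩)
  · exact closure_minimal Set.inter_subset_left hC (hcov.ge (Set.mem_sUnion.2 ⟨W, hW, hg.mem⟩))
  · obtain ⟨a, haW, haO⟩ := hWO
    exact (hg.specializes haW).mem_open hO haO

/-- A set stable under specialisation is closed if it is so over a non-empty open of every irreducible
closed subset of the base. -/
theorem isClosed_of_dense_open {X S : Scheme.{u}} [NoetherianSpace X] [NoetherianSpace S] (f : X ⟶ S) {E : Set X}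
    (hE : ∀ ⦃a b : X⦄, a ⤳ b → a ∈ E → b ∈ E)
    (h : ∀ Z : Set S, IsClosed Z → IsIrreducible Z → ∃ V : Set S, IsOpen V ∧ (Z ∩ V).Nonempty ∧
      ∃ C : Set X, IsClosed C ∧ E ∩ f ⁻¹' (Z ∩ V) = C ∩ f ⁻¹' (Z ∩ V)) : IsClosed E := by
  suffices ∀ Z : Closeds S, IsClosed (E ∩ f ⁻¹' (Z : Set S)) by
    simpa using this ⊤
  intro Z
  induction Z using (wellFounded_lt (α := Closeds S)).induction with
  | _ Z ih =>
    rcases (Z : Set S).eq_empty_or_nonempty with h0 | h0
    · simp [h0]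
    by_cases hirr : IsPreirreducible (Z : Set S)
    · obtain ⟨V, hV, ⟨z, hzZ, hzV⟩, C, hC, hEC⟩ := h Z Z.isClosed ⟨h0, hirr⟩
      let Z' : Closeds S := ⟨(Z : Set S) \ V, Z.isClosed.sdiff hV⟩
      have hlt : Z' < Z := lt_of_le_of_ne (fun a ha => ha.1) fun e => by
        have : z ∈ (Z' : Set S) := e.symm ▸ hzZ
        exact this.2 hzV
      have key : E ∩ f ⁻¹' (Z : Set S) = closure ((C ∩ f ⁻¹' (Z : Set S)) ∩ f ⁻¹' V) ∪ (E ∩ f ⁻¹' (Z' : Set S)) := by
        ext a
        constructor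
        · rintro ⟨haE, haZ⟩
          by_cases haV : f a ∈ V
          · have : a ∈ C ∩ f ⁻¹' ((Z : Set S) ∩ V) := hEC ▸ ⟨haE, haZ, haV⟩
            exact Or.inl (subset_closure ⟨⟨this.1, haZ⟩, haV⟩)
          · exact Or.inr ⟨haE, haZ, haV⟩
        · rintro (ha | ⟨haE, haZ, -⟩)
          · refine ⟨closure_subset_of_stable hE (hV.preimage f.continuous) (hC.inter (Z.isClosed.preimage f.continuous)) ?_ ha, ?_⟩
            · rintro b ⟨⟨hbC, hbZ⟩, hbV⟩
              have : b ∈ E ∩ f ⁻¹' ((Z : Set S) ∩ V) := hEC.symm ▸ ⟨hbC, hbZ, hbV⟩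
              exact this.1
            · exact closure_minimal (fun b hb => hb.1.2) (Z.isClosed.preimage f.continuous) ha
          · exact ⟨haE, haZ⟩
      rw [key]
      exact isClosed_closure.union (ih Z' hlt)
    · rw [isPreirreducible_iff_isClosed_union_isClosed] at hirr
      push Not at hirr
      obtain ⟨z₁, z₂, h1, h2, hsub, hn1, hn2⟩ := hirr
      let Z₁ : Closeds S := ⟨(Z : Set S) ∩ z₁, Z.isClosed.inter h1⟩
      let Z₂ : Closeds S := ⟨(Z : Set S) ∩ z₂, Z.isClosed.inter h2⟩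
      have hlt₁ : Z₁ < Z := lt_of_le_of_ne (fun a ha => ha.1) fun e => hn1 fun a ha => by
        have : a ∈ (Z₁ : Set S) := e.symm ▸ ha
        exact this.2
      have hlt₂ : Z₂ < Z := lt_of_le_of_ne (fun a ha => ha.1) fun e => hn2 fun a ha => by
        have : a ∈ (Z₂ : Set S) := e.symm ▸ ha
        exact this.2
      have key : E ∩ f ⁻¹' (Z : Set S) = (E ∩ f ⁻¹' (Z₁ : Set S)) ∪ (E ∩ f ⁻¹' (Z₂ : Set S)) := by
        ext a
        refine ⟨fun ⟨haE, haZ⟩ => (hsub haZ).imp (fun h => ⟨haE, haZ, h⟩) fun h => ⟨haE, haZ, h⟩, ?_⟩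
        rintro (⟨haE, haZ, -⟩ | ⟨haE, haZ, -⟩) <;> exact ⟨haE, haZ⟩
      rw [key]
      exact (ih Z₁ hlt₁).union (ih Z₂ hlt₂)

/-- Over a non-empty open of an irreducible closed subset the neutral components form an open set. -/
theorem exists_neutral_open {S : Scheme.{u}} [IsAffine S] [IsLocallyNoetherian S] (G : Over S) [GrpObj G]
    [LocallyOfFiniteType G.hom] {Z : Set S} (hZ : IsClosed Z) (hirr : IsIrreducible Z) :
    ∃ V : Set S, IsOpen V ∧ (Z ∩ V).Nonempty ∧
      ∃ W : Set G.left, IsOpen W ∧ SGA3x.neutralSet G ∩ G.hom ⁻¹' (Z ∩ V) = W ∩ G.hom ⁻¹' (Z ∩ V) := by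
  haveI : LocallyOfFinitePresentation G.hom := inferInstance
  haveI : IsLocallyNoetherian G.left := LocallyOfFiniteType.isLocallyNoetherian G.hom
  haveI : QuasiSeparated G.hom := inferInstance
  obtain ⟨gz, hgz⟩ := QuasiSober.sober hirr hZ
  let π := pullback.fst G.hom (S.fromSpecResidueField gz)
  have hπ : Topology.IsEmbedding π := (G.hom.fiberι gz).isEmbedding
  haveI : LocallyOfFiniteType (fib G gz).hom := MorphismProperty.pullback_snd _ _ ‹_›
  haveI : IsLocallyNoetherian (fib G gz).left := LocallyOfFiniteType.isLocallyNoetherian (fib G gz).hom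
  obtain ⟨W₀, hW₀, hWW₀⟩ := hπ.isInducing.isOpen_iff.mp
    (GrpSchLib.isOpen_connectedComponent (G := fib G gz) (η[fib G gz].left (IsLocalRing.closedPoint (S.residueField gz))))
  obtain ⟨Q, hQc, hNQ⟩ := Groth.Agent.S5323.result S G fun s => MorphismProperty.pullback_snd _ _ inferInstance
  let W : G.left.Opens := ⟨W₀, hW₀⟩ ⊓ Q
  have hWgz : ∀ x, G.hom x = gz → (x ∈ SGA3x.neutralSet G ↔ x ∈ W) := by
    intro x hx
    have hmem : x ∈ SGA3x.neutralSet G ↔ x ∈ W₀ := by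
      obtain ⟨w, rfl⟩ : x ∈ Set.range π := (Scheme.Hom.range_fiberι G.hom gz).ge hx
      rw [mem_neutralSet_iff, hx, connectedComponentIn_eq, hπ.injective.mem_set_image]
      exact (Set.ext_iff.mp hWW₀ w).symm
    exact ⟨fun h => ⟨hmem.1 h, hNQ h⟩, fun h => hmem.2 h.1⟩
  haveI : IsNoetherian (Q : Scheme.{u}) := { toCompactSpace := isCompact_iff_compactSpace.mp hQc }
  let D : Set (Q : Scheme.{u}) := Q.ι ⁻¹' (((SGA3x.neutralSet G \ (W : Set G.left)) ∪ ((W : Set G.left) \ SGA3x.neutralSet G)) ∩ G.hom ⁻¹' Z)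
  have hD : Topology.IsConstructible D := by
    have hc : ∀ C : Set (Q : Scheme.{u}), IsOpen C → Topology.IsConstructible C := fun C hC => by
      exact (NoetherianSpace.isCompact _).isConstructible hC
    have hN : Topology.IsConstructible (Q.ι ⁻¹' SGA3x.neutralSet G) :=
      (GrpFieldLib.NeutralCons.isConstructible_neutralSet G).preimage_of_isOpenEmbedding Q.ι.isOpenEmbedding
    have hW : Topology.IsConstructible (Q.ι ⁻¹' (W : Set G.left)) := hc _ (W.2.preimage Q.ι.continuous)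
    have hZc : Topology.IsConstructible (Q.ι ⁻¹' (G.hom ⁻¹' Z)) := by
      rw [← compl_compl (Q.ι ⁻¹' (G.hom ⁻¹' Z))]
      exact (hc _ ((hZ.preimage G.hom.continuous).preimage Q.ι.continuous).isOpen_compl).compl
    exact ((hN.sdiff hW).union (hW.sdiff hN)).inter hZc
  haveI : QuasiCompact (Q.ι ≫ G.hom) := inferInstance
  let C := closure ((Q.ι ≫ G.hom) '' D)
  refine ⟨Cᶜ, isClosed_closure.isOpen_compl, ⟨gz, hgz.mem, fun hmem => ?_⟩, W, W.2, ?_⟩
  · obtain ⟨d, hd, hdgz⟩ := ProConsLib.exists_specializes_of_mem_closure_image_scheme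
      (ProConsLib.isProConstructible_of_affine fun x => by
        obtain ⟨_, ⟨A, hA, rfl⟩, hxA, -⟩ := (Q : Scheme.{u}).isBasis_affineOpens.exists_subset_of_mem_open (Set.mem_univ x) isOpen_univ
        exact ⟨A, hA, hxA, {Subtype.val ⁻¹' D}, by
          rintro _ rfl; exact hD.preimage_of_isOpenEmbedding A.isOpen.isOpenEmbedding_subtypeVal, by simp⟩)
      (Q.ι ≫ G.hom) hmem
    have hdZ : G.hom (Q.ι d) ∈ Z := hd.2
    have he : G.hom (Q.ι d) = gz := (hdgz.antisymm (hgz.specializes hdZ)).eq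
    rcases hd.1 with ⟨h1, h2⟩ | ⟨h1, h2⟩
    · exact h2 ((hWgz _ he).1 h1)
    · exact h2 ((hWgz _ he).2 h1)
  · ext x
    refine ⟨fun ⟨h1, h2⟩ => ⟨by_contra fun h3 => h2.2 ?_, h2⟩, fun ⟨h1, h2⟩ => ⟨by_contra fun h3 => h2.2 ?_, h2⟩⟩
    · exact subset_closure ⟨⟨x, hNQ h1⟩, ⟨Or.inl ⟨h1, h3⟩, h2.1⟩, rfl⟩
    · exact subset_closure ⟨⟨x, h1.2⟩, ⟨Or.inr ⟨h1, h3⟩, h2.1⟩, rfl⟩

end Groth.Agent.TauLib
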