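import Groth.Agent.GrpFieldLib.SCGroup
import Groth.Agent.GrpSchLib.FieldAllComp
import Groth.Agent.GrpFieldLib.HomogRel
import Mathlib.Topology.NoetherianSpace
import Mathlib.Data.Fintype.Pigeonhole

/-! Powers of a point and the neutral components of a group scheme. -/

set_option backward.isDefEq.respectTransparency false
set_option backward.isDefEq.respectTransparency.types false

universe u

open CategoryTheory Limits AlgebraicGeometry MonoidalCategory CartesianMonoidalCategory MonObj GrpObj TopologicalSpace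
open scoped CategoryTheory.Obj

namespace Groth.Agent.TauLib

open GrpSchLib GrpSchLib.Neutral GrpFieldLib GrpFieldLib.SecComp

variable {S : Scheme.{u}} (G : Over S) [GrpObj G]

/-- The power endomorphism on points. -/
noncomputable abbrev pw (n : ℕ) : G.left → G.left := ((𝟙 G : G ⟶ G) ^ n).left.base

theorem hom_pw (n : ℕ) (x : G.left) : G.hom (pw G n x) = G.hom x :=
  congrArg (fun m : G.left ⟶ S => m x) (Over.w ((𝟙 G : G ⟶ G) ^ n))

theorem pw_one (x : G.left) : pw G 1 x = x := by
  show ((𝟙 G : G ⟶ G) ^ 1).left x = x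
  rw [pow_one]; rfl

theorem pw_pw (a b : ℕ) (x : G.left) : pw G b (pw G a x) = pw G (a * b) x := by
  show (((𝟙 G : G ⟶ G) ^ a).left ≫ ((𝟙 G : G ⟶ G) ^ b).left) x = ((𝟙 G : G ⟶ G) ^ (a * b)).left x
  rw [← Over.comp_left, MonObj.comp_pow, Category.comp_id, ← pow_mul]

variable {G}

/-- The points with values in the neutral components. -/
noncomputable def neutralPts (T : Over S) : Subgroup (T ⟶ G) where
  carrier := {w | ∀ z : T.left, w.left z ∈ SGA3x.neutralSet G}
  one_mem' z := by
    show (1 : T ⟶ G).left z ∈ _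
    rw [Hom.one_def, left_comp_apply]
    exact unit_mem_neutralSet G _
  mul_mem' {a b} ha hb z := by
    show (a * b).left z ∈ _
    rw [Hom.mul_def, left_comp_apply]
    refine mul_mem_neutralSet G ?_ ?_
    · rw [← left_comp_apply, lift_fst]; exact ha z
    · rw [← left_comp_apply, lift_snd]; exact hb z
  inv_mem' {a} ha z := by
    show (a⁻¹).left z ∈ _
    rw [Hom.inv_def, left_comp_apply]
    exact inv_mem_neutralSet G (ha z)

theorem mem_neutralPts_iff {T : Over S} [Subsingleton T.left] (z : T.left) (w : T ⟶ G) :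
    w ∈ neutralPts T ↔ w.left z ∈ SGA3x.neutralSet G :=
  ⟨fun h => h z, fun h z' => Subsingleton.elim z z' ▸ h⟩

variable (G) in
/-- A field valued point through a given point. -/
noncomputable abbrev ptOf (x : G.left) : Over.mk (G.left.fromSpecResidueField x ≫ G.hom) ⟶ G :=
  Over.homMk (G.left.fromSpecResidueField x) rfl

theorem pow_left_apply {T : Over S} (P : T ⟶ G) (n : ℕ) (z : T.left) :
    (P ^ n).left z = pw G n (P.left z) := by
  show _ = (P.left ≫ ((𝟙 G : G ⟶ G) ^ n).left) z
  rw [← Over.comp_left, MonObj.comp_pow, Category.comp_id]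

instance (x : G.left) : Subsingleton ↥(Over.mk (G.left.fromSpecResidueField x ≫ G.hom)).left :=
  inferInstanceAs (Subsingleton (PrimeSpectrum (G.left.residueField x)))

theorem pw_mem_iff (x : G.left) (n : ℕ) :
    pw G n x ∈ SGA3x.neutralSet G ↔ ptOf G x ^ n ∈ neutralPts (Over.mk (G.left.fromSpecResidueField x ≫ G.hom)) := by
  rw [mem_neutralPts_iff (IsLocalRing.closedPoint (G.left.residueField x)), pow_left_apply]
  show _ ↔ pw G n (G.left.fromSpecResidueField x _) ∈ _
  rw [Scheme.fromSpecResidueField_apply]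

/-- The exponents are stable under multiples. -/
theorem pw_mem_mul {x : G.left} {a : ℕ} (h : pw G a x ∈ SGA3x.neutralSet G) (b : ℕ) :
    pw G (a * b) x ∈ SGA3x.neutralSet G := by
  rw [pw_mem_iff] at h ⊢
  rw [pow_mul]
  exact Subgroup.pow_mem _ h b

/-- The exponents are stable under greatest common divisors. -/
theorem pw_mem_gcd {x : G.left} {a b : ℕ} (ha : pw G a x ∈ SGA3x.neutralSet G) (hb : pw G b x ∈ SGA3x.neutralSet G) :
    pw G (a.gcd b) x ∈ SGA3x.neutralSet G := by
  rw [pw_mem_iff] at ha hb ⊢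
  have h := Subgroup.mul_mem _ (Subgroup.zpow_mem _ ha (Nat.gcdA a b)) (Subgroup.zpow_mem _ hb (Nat.gcdB a b))
  rw [← zpow_natCast (ptOf G x) a, ← zpow_natCast (ptOf G x) b, ← zpow_mul, ← zpow_mul, ← zpow_add,
    ← Nat.gcd_eq_gcd_ab, zpow_natCast] at h
  exact h

/-- Pigeonhole: if all powers of a point lie in a quasi-compact open then some power is neutral. -/
theorem exists_pw_mem [IsAffine S] [LocallyOfFiniteType G.hom] (x : G.left) (Q : G.left.Opens)
    (hQ : IsCompact (Q : Set G.left)) (h : ∀ k : ℕ, 0 < k → pw G k x ∈ Q) :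
    ∃ n : ℕ, 0 < n ∧ pw G n x ∈ SGA3x.neutralSet G := by
  let T : Over S := Over.mk (G.left.fromSpecResidueField x ≫ G.hom)
  let P : T ⟶ G := ptOf G x
  let t₀ : T.left := IsLocalRing.closedPoint (G.left.residueField x)
  have hP : ∀ k, (P ^ k).left t₀ = pw G k x := fun k => by
    rw [pow_left_apply]
    exact congrArg (pw G k) (Scheme.fromSpecResidueField_apply _ _)
  haveI : LocallyOfFiniteType (snd G T).left := MorphismProperty.pullback_snd _ _ ‹_›
  haveI : IsLocallyNoetherian T.left := inferInstanceAs (IsLocallyNoetherian (Spec (G.left.residueField x)))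
  haveI : IsLocallyNoetherian (G ⊗ T).left := LocallyOfFiniteType.isLocallyNoetherian (snd G T).left
  haveI : IsAffine T.left := inferInstanceAs (IsAffine (Spec (G.left.residueField x)))
  haveI : IsAffineHom T.hom := isAffineHom_of_isAffine _
  haveI : IsAffineHom (fst G T).left := MorphismProperty.pullback_fst G.hom T.hom ‹IsAffineHom T.hom›
  let Q' : (G ⊗ T).left.Opens := (fst G T).left ⁻¹ᵁ Q
  have hQ' : IsCompact (Q' : Set (G ⊗ T).left) := (fst G T).left.isCompact_preimage hQ
  haveI : CompactSpace ↥(Q' : Scheme.{u}) := isCompact_iff_compactSpace.mp hQ'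
  haveI : IsNoetherian (Q' : Scheme.{u}) := { }
  let σ : ℕ → (Q' : Scheme.{u}) := fun k => ⟨(lift (P ^ (k + 1)) (𝟙 T)).left t₀, by
    show (fst G T).left ((lift (P ^ (k + 1)) (𝟙 T)).left t₀) ∈ Q
    rw [← left_comp_apply, lift_fst, hP]
    exact h _ k.succ_pos⟩
  have hfin : (irreducibleComponents ↥(Q' : Scheme.{u})).Finite := NoetherianSpace.finite_irreducibleComponents
  haveI := hfin.to_subtype
  obtain ⟨k, l, hkl, heq⟩ := Finite.exists_ne_map_eq_of_infinite
    (fun k : ℕ => (⟨irreducibleComponent (σ k), irreducibleComponent_mem_irreducibleComponents _⟩ :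
      irreducibleComponents ↥(Q' : Scheme.{u})))
  wlog hlt : k < l generalizing k l
  · exact this l k hkl.symm heq.symm (lt_of_le_of_ne (not_lt.1 hlt) hkl.symm)
  have hC : _root_.IsPreconnected (irreducibleComponent (σ k)) :=
    isIrreducible_irreducibleComponent.isPreirreducible.isPreconnected
  let ψ : G ⊗ T ⟶ G := fst G T * (snd G T ≫ (P ^ (k + 1))⁻¹)
  have hψ : ∀ j : ℕ, (Q'.ι ≫ ψ.left) (σ j) = (P ^ (j + 1) * (P ^ (k + 1))⁻¹).left t₀ := fun j => by
    show ψ.left ((lift (P ^ (j + 1)) (𝟙 T)).left t₀) = _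
    rw [← left_comp_apply]
    congr 2
    rw [MonObj.comp_mul, lift_fst, lift_snd_assoc, Category.id_comp]
  let s : S := G.hom x
  have hbase : ∀ z, G.hom ((Q'.ι ≫ ψ.left) z) = s := fun z => by
    show G.hom (ψ.left (Q'.ι z)) = s
    rw [← Scheme.Hom.comp_apply, Over.w ψ]
    have e : (G ⊗ T).hom = (snd G T).left ≫ T.hom := (Over.w (snd G T)).symm
    rw [e, Scheme.Hom.comp_apply, Subsingleton.elim ((snd G T).left (Q'.ι z)) t₀]
    show G.hom (G.left.fromSpecResidueField x t₀) = G.hom x
    rw [Scheme.fromSpecResidueField_apply]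
  have himg := hC.image _ (Q'.ι ≫ ψ.left).continuous.continuousOn
  refine ⟨(l + 1) - (k + 1), by omega, ?_⟩
  have e1 : P ^ (l + 1) * (P ^ (k + 1))⁻¹ = P ^ ((l + 1) - (k + 1)) := (pow_sub P (by omega)).symm
  have e2 : (Q'.ι ≫ ψ.left) (σ k) = unit G s := by
    rw [hψ, _root_.mul_inv_cancel, Hom.one_def, left_comp_apply]
    show (η[G]).left ((toUnit T).left t₀) = (η[G]).left s
    congr 1
    show T.hom t₀ = s
    show G.hom (G.left.fromSpecResidueField x t₀) = G.hom x
    rw [Scheme.fromSpecResidueField_apply]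
  have hmem : σ l ∈ irreducibleComponent (σ k) := by
    rw [show irreducibleComponent (σ k) = irreducibleComponent (σ l) from congrArg Subtype.val heq]
    exact mem_irreducibleComponent
  rw [← hP, ← e1, ← hψ, mem_neutralSet_iff, hbase]
  exact himg.subset_connectedComponentIn ⟨σ k, mem_irreducibleComponent, e2⟩
    (by rintro _ ⟨z, -, rfl⟩; exact hbase z) ⟨σ l, hmem, rfl⟩

end Groth.Agent.TauLib
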